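import Groth.Agent.QExact41.TriLike
import Groth.Agent.DCK91.Tri
import Groth.Agent.DCX42.PushAdj
import Groth.Agent.FlatModel41.Exactness
import Groth.Agent.Mod48.PushProd
import Groth.Agent.QCGroth72.Category

/-!
Derived inverse and direct images and derived tensor products send triangles to triangles.
-/

set_option autoImplicit false
set_option linter.style.haveILetI false

noncomputable section

universe u

open CategoryTheory Limits Pretriangulated AlgebraicGeometry
open Groth.Agent.Mod48
attribute [local instance] HasDerivedCategory.standard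

namespace Groth.Agent.QExact41

variable {X Y : Scheme.{u}}

theorem triLike_Lpull (f : X ⟶ Y) [DCoh.HasLpull f] : TriLike (DCoh.Lpull f) := by
  let W := HomotopyCategory.quasiIso Y.Modules (ComplexShape.up ℤ)
  let Rm := (Scheme.Modules.pullback f).mapHomologicalComplex (ComplexShape.up ℤ)
  let c := (DCoh.pullKh f).totalLeftDerivedCounit DerivedCategory.Qh W
  let α : DerivedCategory.Q ⋙ DCoh.Lpull f ⟶ Rm ⋙ DerivedCategory.Q :=
    { app := fun E => (DCoh.Lpull f).map ((DerivedCategory.quotientCompQhIso Y.Modules).inv.app E) ≫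
        c.app ((HomotopyCategory.quotient Y.Modules (ComplexShape.up ℤ)).obj E) ≫
          (DerivedCategory.quotientCompQhIso X.Modules).hom.app (Rm.obj E)
      naturality := fun E E' φ => by
        have h1 := (DerivedCategory.quotientCompQhIso Y.Modules).inv.naturality φ
        have h2 := c.naturality ((HomotopyCategory.quotient Y.Modules (ComplexShape.up ℤ)).map φ)
        have h3 := (DerivedCategory.quotientCompQhIso X.Modules).hom.naturality (Rm.map φ)
        change (DCoh.Lpull f).map (DerivedCategory.Q.map φ) ≫ (DCoh.Lpull f).map _ ≫ _ ≫ _ =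
          ((DCoh.Lpull f).map _ ≫ _ ≫ _) ≫ DerivedCategory.Q.map (Rm.map φ)
        rw [← Functor.map_comp_assoc]
        refine (congrArg (fun t => (DCoh.Lpull f).map t ≫ _) h1).trans ?_
        rw [Functor.map_comp_assoc, Category.assoc]
        refine congrArg (fun t => _ ≫ t) ?_
        refine (Category.assoc _ _ _).symm.trans ((congrArg (· ≫ _) h2).trans ((Category.assoc _ _ _).trans ?_))
        rw [Category.assoc]
        exact congrArg (fun t => _ ≫ t) h3 }
  refine triLike_of_termwise (DCoh.Lpull f) (Scheme.Modules.pullback f)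
    (fun E => ModSite.IsKFlat (O := Y.sheaf) E ∧ ∀ i, ModSite.IsFlat (O := Y.sheaf) (E.X i))
    (fun T hT => ?_) α fun E hE => ?_
  · obtain ⟨P, N, b, hP, hN, he⟩ := DCK91.exists_KFF_triangle T hT
    exact ⟨P, N, b, hP, hN, ⟨(isKFlat_cone_two_out_of_three (O := Y.sheaf) b).1 hP.1 hN.1,
      isFlat_cone_X (O := Y.sheaf) b hP.2 hN.2⟩, he⟩
  · haveI : IsIso (c.app ((HomotopyCategory.quotient Y.Modules (ComplexShape.up ℤ)).obj E)) :=
      DCK91.isIso_pullCounit f _ ⟨E, rfl, hE.1, hE.2⟩
    exact ((DCoh.Lpull f).mapIso ((DerivedCategory.quotientCompQhIso Y.Modules).app E).symm ≪≫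
      asIso (c.app ((HomotopyCategory.quotient Y.Modules (ComplexShape.up ℤ)).obj E)) ≪≫
        (DerivedCategory.quotientCompQhIso X.Modules).app (Rm.obj E)).isIso_hom

theorem triLike_LTensorCx (F : CochainComplex X.Modules ℤ) [DCoh.HasLTensorCx F] :
    TriLike (DCoh.LTensorCx F) := by
  haveI : ModSite.HasLTensorCx (O := X.sheaf) F := (inferInstance : DCoh.HasLTensorCx F)
  obtain ⟨P, p, hP, -, hp, -⟩ := Mod48.exists_resolution (O := X.sheaf) F
  haveI := hp
  obtain ⟨e⟩ := FlatModel41.nonempty_LTensorCx_iso (O := X.sheaf) F P hP p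
  exact triLike_of_model (A := ModSite.Mod X.sheaf) (B := ModSite.Mod X.sheaf) (ModSite.LTensorCx (O := X.sheaf) F)
    ((ModSite.tensorCx X.sheaf).flip.obj P) (fun S hS => shortExact_tensorCx_flip_obj_of_split P S hS) e

theorem triLike_Rpush (f : X ⟶ Y) [DCoh.HasRpush f] : TriLike (DCoh.Rpush f) := fun T hT =>
  Mod48.exists_distinguished_push (A := X.Modules) (B := Y.Modules) (R := Scheme.Modules.pushforward f)
    (DCoh.Rpush f)
    ((DCoh.pushKh f).totalRightDerivedUnit DerivedCategory.Qh
      (HomotopyCategory.quasiIso X.Modules (ComplexShape.up ℤ)))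
    (fun I hI => DCX42.isIso_pushUnit f I hI) CohDer42.RdAdj.enoughKInj T.mor₁ T.mor₂ T.mor₃ hT

theorem rightExact_iff_leftExact_succ (f : X ⟶ Y) (F : CochainComplex X.Modules ℤ) (p : ℤ) [DCoh.HasLpull f]
    [DCoh.HasLTensorCx F] [DCoh.HasRpush f] :
    PreservesFiniteColimits ((QCohCat.isQCoh Y).ι ⋙ DerivedCategory.singleFunctor Y.Modules 0 ⋙ DCoh.Lpull f ⋙
        DCoh.LTensorCx F ⋙ DCoh.Rpush f ⋙ DerivedCategory.homologyFunctor Y.Modules p) ↔
      PreservesFiniteLimits ((QCohCat.isQCoh Y).ι ⋙ DerivedCategory.singleFunctor Y.Modules 0 ⋙ DCoh.Lpull f ⋙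
        DCoh.LTensorCx F ⋙ DCoh.Rpush f ⋙ DerivedCategory.homologyFunctor Y.Modules (p + 1)) := by
  letI : Abelian (QCohCat.isQCoh Y).FullSubcategory := QCGroth72.instAbelian
  haveI : PreservesFiniteColimits (QCohCat.isQCoh Y).ι := PreservesColimitsOfSize.preservesFiniteColimits _
  exact TriLike.preservesFiniteColimits_iff_succ (QCohCat.isQCoh Y).ι
    (((triLike_Lpull f).comp (triLike_LTensorCx F)).comp (triLike_Rpush f)) p

end Groth.Agent.QExact41
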