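import Groth.Agent.DCK91.KFlatTilde
import Groth.Agent.FBase64.RestrictStalk
import Groth.Agent.QCFilt72.Presentable
import Groth.Agent.FlatMor67.PerfectSheaf
import Groth.Agent.PerfAmp41.Restrict

/-!
A module whose tensor product keeps monomorphisms of quasi-coherent modules is flat.
-/

set_option autoImplicit false
set_option backward.isDefEq.respectTransparency.types false
set_option linter.style.haveILetI false

noncomputable section

universe u

open CategoryTheory Limits AlgebraicGeometry TopologicalSpace Opposite MonoidalCategory TensorProduct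

namespace Groth.Agent.QExact41

section Stalk

variable {U X : Scheme.{u}} (j : U ⟶ X) [IsOpenImmersion j] (u : U)

/-- The isomorphism of local rings along an open immersion. -/
abbrev sigma : X.presheaf.stalk (j u) ≃+* U.presheaf.stalk u := (asIso (j.stalkMap u)).commRingCatIsoToRingEquiv

/-- The stalk of the restriction, as a natural isomorphism. -/
def stalkRestrictIso :
    DCK91.SP (j u) ≅ Scheme.Modules.restrictFunctor j ⋙ DCK91.SP u ⋙ ModuleCat.restrictScalars.{u} (sigma j u).toRingHom :=
  NatIso.ofComponents
    (fun F => (AddEquiv.toLinearEquiv (M := (DCK91.SP (j u)).obj F)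
      (M₂ := (ModuleCat.restrictScalars.{u} (sigma j u).toRingHom).obj ((DCK91.SP u).obj (F.restrict j)))
      (FBase64.AssSheaf.restrictStalkEquiv j F u) (FBase64.AssSheaf.restrictStalkEquiv_smul j F u)).toModuleIso)
    fun {F G} f => ModuleCat.hom_ext (LinearMap.ext fun m => by
      let eF := (asIso ((Scheme.Modules.restrictStalkNatIso j u).hom.app F)).addCommGroupIsoToAddEquiv
      let eG := (asIso ((Scheme.Modules.restrictStalkNatIso j u).hom.app G)).addCommGroupIsoToAddEquiv
      change eG.symm ((DCK91.SP (j u)).map f m) = (DCK91.SP u).map ((Scheme.Modules.restrictFunctor j).map f) (eF.symm m)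
      obtain ⟨n, rfl⟩ := eF.surjective m
      rw [AddEquiv.symm_apply_apply, AddEquiv.symm_apply_eq, DCK91.SP_map_apply, DCK91.SP_map_apply]
      exact (congr($((Scheme.Modules.restrictStalkNatIso j u).hom.naturality f) n)).symm)

end Stalk

section Algebra

variable {R : CommRingCat.{u}} {A B : Type u} [CommRing A] [CommRing B] (σ : A ≃+* B) (g : R →+* B)

/-- Extension of scalars followed by transport along an isomorphism of rings. -/
def extendTransport :
    ModuleCat.extendScalars.{u, u, u} g ⋙ ModuleCat.restrictScalars.{u} σ.toRingHom ≅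
      ModuleCat.extendScalars.{u, u, u} ((σ.symm.toRingHom).comp g) :=
  Adjunction.leftAdjointUniq
    (((ModuleCat.extendRestrictScalarsAdj.{u, u, u} g).comp
      (ModuleCat.restrictScalarsEquivalenceOfRingEquiv σ).toAdjunction).ofNatIsoRight
        (ModuleCat.restrictScalarsComp.{u} g σ.symm.toRingHom).symm)
    (ModuleCat.extendRestrictScalarsAdj.{u, u, u} ((σ.symm.toRingHom).comp g))

end Algebra

/-- Flatness over the base from monomorphisms kept by extension of scalars. -/
theorem flat_of_ext {R A : Type u} [CommRing R] [CommRing A] [Algebra R A] (K : Type u) [AddCommGroup K]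
    [Module A K] [Module R K] [IsScalarTower R A K]
    (h : ∀ I : Ideal R, Function.Injective (LinearMap.rTensor K (LinearMap.baseChange A I.subtype))) :
    Module.Flat R K := by
  rw [Module.Flat.iff_lTensor_injective']
  intro I x y hxy
  let eI := AlgebraTensorModule.cancelBaseChange R A A K I
  let eR := AlgebraTensorModule.cancelBaseChange R A A K R
  have hl : Function.Injective (LinearMap.lTensor K (LinearMap.baseChange A I.subtype)) := by
    intro a b hab
    apply (TensorProduct.comm A K (A ⊗[R] I)).injective
    apply h I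
    have hc : ∀ z, (LinearMap.baseChange A I.subtype).rTensor K (TensorProduct.comm A K (A ⊗[R] I) z) =
        TensorProduct.comm A K (A ⊗[R] R) ((LinearMap.baseChange A I.subtype).lTensor K z) := fun z => by
      induction z using TensorProduct.induction_on with
      | zero => simp
      | tmul k e => simp
      | add p q hp hq => simp only [map_add, hp, hq]
    rw [hc, hc, hab]
  have key : ∀ z, eR (LinearMap.lTensor K (LinearMap.baseChange A I.subtype) z) =
      LinearMap.lTensor K I.subtype (eI z) := fun z => by
    induction z using TensorProduct.induction_on with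
    | zero => simp
    | tmul k e =>
      induction e using TensorProduct.induction_on with
      | zero => simp
      | tmul a i => simp [eI, eR]
      | add p q hp hq => simp only [tmul_add, map_add, hp, hq]
    | add p q hp hq => simp only [map_add, hp, hq]
  obtain ⟨a, rfl⟩ := eI.surjective x
  obtain ⟨b, rfl⟩ := eI.surjective y
  rw [← key, ← key] at hxy
  exact congrArg eI (hl (eR.injective hxy))

set_option maxHeartbeats 400000 in
/-- A module whose tensor product keeps monomorphisms of quasi-coherent modules is flat. -/
theorem isFlat_of_mono_qcoh {X : Scheme.{u}} [QuasiSeparatedSpace X] (K : X.Modules)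
    (h : ∀ ⦃M N : X.Modules⦄ (k : M ⟶ N), M.IsQuasicoherent → N.IsQuasicoherent → Mono k →
      Mono ((DCoh.tensorBi.map k).app K)) : FlatMod.IsFlat K := by
  intro x
  obtain ⟨U, hU, hx, -⟩ := exists_isAffineOpen_mem_and_subset (x := x) (U := (⊤ : X.Opens)) trivial
  obtain ⟨u, rfl⟩ : x ∈ Set.range hU.fromSpec := by rw [hU.range_fromSpec]; exact hx
  haveI := QCFilt72.quasiCompact_fromSpec hU
  let R : CommRingCat.{u} := Γ(X, U)
  let j : Spec R ⟶ X := hU.fromSpec
  let σ := sigma j u
  let φ : R →+* X.presheaf.stalk (j u) := σ.symm.toRingHom.comp (DCK91.specGerm R u)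
  let e : tilde.functor R ⋙ Scheme.Modules.pushforward j ⋙ DCK91.SP (j u) ≅ ModuleCat.extendScalars.{u, u, u} φ :=
    Functor.isoWhiskerLeft _ (Functor.isoWhiskerLeft _ (stalkRestrictIso j u) ≪≫ (Functor.associator _ _ _).symm ≪≫
      Functor.isoWhiskerRight (asIso (Scheme.Modules.restrictAdjunction j).counit) _ ≪≫ Functor.leftUnitor _) ≪≫
      (Functor.associator _ _ _).symm ≪≫ Functor.isoWhiskerRight (DCK91.tildeStalkIso R u) _ ≪≫
      extendTransport σ (DCK91.specGerm R u)
  let Kx := (DCK91.SP (j u)).obj K
  let T := (curriedTensor (ModuleCat.{u} (X.presheaf.stalk (j u)))).flip.obj Kx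
  have hm : ∀ ⦃I N : ModuleCat.{u} R⦄ (k : I ⟶ N), Mono k → Mono (T.map ((ModuleCat.extendScalars.{u, u, u} φ).map k)) := by
    intro I N k hk
    let f := (Scheme.Modules.pushforward j).map ((tilde.functor R).map k)
    haveI := hk
    haveI : Mono ((tilde.functor R).map k) := inferInstance
    haveI : (Scheme.Modules.pushforward j).PreservesMonomorphisms :=
      Functor.preservesMonomorphisms_of_adjunction (Scheme.Modules.restrictAdjunction j)
    haveI hf : Mono f := inferInstanceAs (Mono ((Scheme.Modules.pushforward j).map _))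
    haveI := h f (QCqs72.isQuasicoherent_pushforward (M := tilde I) j)
      (QCqs72.isQuasicoherent_pushforward (M := tilde N) j) hf
    haveI : Mono ((DCK91.SP (j u)).map ((DCoh.tensorBi.map f).app K)) := inferInstance
    have hcomp : Mono (T.map ((DCK91.SP (j u)).map f) ≫ DCK91.tensorStalk (j u) _ K) := by
      have hl : T.map ((DCK91.SP (j u)).map f) ≫ DCK91.tensorStalk (j u) _ K = _ :=
        DCK91.tensorStalk_left (j u) f K
      rw [hl]
      exact mono_comp _ _
    have this : Mono (T.map ((DCK91.SP (j u)).map f)) := mono_of_mono _ (DCK91.tensorStalk (j u) _ K)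
    let eT := Functor.isoWhiskerRight e T
    have hn : T.map ((ModuleCat.extendScalars.{u, u, u} φ).map k) =
        eT.inv.app I ≫ T.map ((DCK91.SP (j u)).map f) ≫ eT.hom.app N :=
      (Iso.app eT I).inv_comp_eq.2 (eT.hom.naturality k) |>.symm
    rw [hn]
    exact @mono_comp _ _ _ _ _ _ (IsSplitMono.mk' ⟨(eT.app I).hom, (eT.app I).inv_hom_id⟩).mono _ (@mono_comp _ _ _ _ _ _ this _ (IsSplitMono.mk' ⟨(eT.app N).inv, (eT.app N).hom_inv_id⟩).mono)
  letI : Algebra R (X.presheaf.stalk (j u)) := φ.toAlgebra
  letI : Module R Kx := Module.compHom Kx φ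
  haveI : IsScalarTower R (X.presheaf.stalk (j u)) Kx := IsScalarTower.of_algebraMap_smul fun _ _ => rfl
  haveI : IsLocalization u.asIdeal.primeCompl (X.presheaf.stalk (j u)) := by
    letI : Algebra R ((Spec R).presheaf.stalk u) := (DCK91.specGerm R u).toAlgebra
    haveI : IsLocalization u.asIdeal.primeCompl ((Spec R).presheaf.stalk u) :=
      StructureSheaf.IsLocalization.to_stalk R u
    exact IsLocalization.isLocalization_of_algEquiv _
      (AlgEquiv.ofRingEquiv (f := σ.symm) fun _ => rfl : (Spec R).presheaf.stalk u ≃ₐ[R] X.presheaf.stalk (j u))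
  refine (Module.flat_iff_of_isLocalization (X.presheaf.stalk (j u)) u.asIdeal.primeCompl (M := Kx)).2 ?_
  refine flat_of_ext (R := R) (A := X.presheaf.stalk (j u)) Kx fun I => ?_
  haveI := hm (ModuleCat.ofHom I.subtype) ((ModuleCat.mono_iff_injective _).2 Subtype.val_injective)
  exact (ModuleCat.mono_iff_injective (T.map ((ModuleCat.extendScalars.{u, u, u} φ).map (ModuleCat.ofHom I.subtype)))).1 this

end Groth.Agent.QExact41
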