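import Groth.Agent.QExact41.MonoFlat
import Groth.Agent.Betti41.ExactFunctor

/-!
Exactness of `M ↦ H^p(M ⊗^L F)` on quasi-coherent modules gives flat cokernels.
-/

set_option autoImplicit false
set_option linter.style.haveILetI false
set_option linter.unusedSectionVars false

noncomputable section

universe u

open CategoryTheory Limits AlgebraicGeometry HomologicalComplex
attribute [local instance] HasDerivedCategory.standard

namespace Groth.Agent.QExact41

section Abstract

variable {A₀ A B : Type*} [Category* A₀] [Category* A] [Category* B] [Abelian A₀] [Abelian A] [Abelian B]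
  (ι : A₀ ⥤ A) [ι.Additive] [PreservesFiniteLimits ι] [PreservesFiniteColimits ι]
  (G : A ⥤ CochainComplex B ℤ) [G.Additive]

/-- Exactness in one degree on a subcategory keeps monomorphisms in two degrees. -/
theorem mono_homologyMap_of_exact (hG : ∀ S : ShortComplex A, S.ShortExact → (S.map G).ShortExact) (p : ℤ)
    [PreservesFiniteLimits (ι ⋙ FlatModel41.HFun G p)] [PreservesFiniteColimits (ι ⋙ FlatModel41.HFun G p)]
    {M N : A₀} (k : M ⟶ N) [Mono k] :
    Mono (homologyMap (G.map (ι.map k)) p) ∧ Mono (homologyMap (G.map (ι.map k)) (p + 1)) := by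
  let S := ShortComplex.mk k (cokernel.π k) (cokernel.condition k)
  have hS : S.ShortExact :=
    { exact := ShortComplex.exact_of_g_is_cokernel S (cokernelIsCokernel k)
      mono_f := inferInstanceAs (Mono k)
      epi_g := inferInstanceAs (Epi (cokernel.π k)) }
  have hS' : ((S.map ι).map G).ShortExact := hG _ (hS.map_of_exact ι)
  haveI hf : Mono (homologyMap ((S.map ι).map G).f p) :=
    (inferInstance : (ι ⋙ FlatModel41.HFun G p).PreservesMonomorphisms).preserves k
  haveI hg : Epi (homologyMap ((S.map ι).map G).g p) :=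
    (inferInstance : (ι ⋙ FlatModel41.HFun G p).PreservesEpimorphisms).preserves (cokernel.π k)
  have h0 : hS'.δ p (p + 1) rfl = 0 :=
    (cancel_epi (homologyMap ((S.map ι).map G).g p)).1 ((hS'.comp_δ p (p + 1) rfl).trans comp_zero.symm)
  exact ⟨hf, (hS'.homology_exact₁ p (p + 1) rfl).mono_g h0⟩

end Abstract

section Site

variable {C : Type u} [SmallCategory C] {J : GrothendieckTopology C} {O : Sheaf J CommRingCat.{u}}

open Groth.Agent.Mod48 FlatModel41 in
theorem mono_tensor_coker (E : CC O) (hE : ∀ i, ModSite.IsFlat (E.X i)) (q : ℤ) {M N : ModSite.Mod O} (k : M ⟶ N)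
    [Mono k] (h : Mono (homologyMap ((GE E).map k) (q + 1))) :
    Mono ((tR (cokernel (E.d q (q + 1)))).map k) := by
  haveI := h
  haveI : Mono (((GE E).map k).f (q + 1 + 1)) := (isFlat_iff_mono _).1 (hE _) k
  haveI := mono_opcyclesMap ((GE E).map k) (q + 1)
  have hm : Mono (opcyclesMap ((GE E).map k) (q + 1) ≫ (opIso E q N).hom) := mono_comp _ _
  rw [opIso_natural] at hm
  have : Mono ((opIso E q M).inv ≫ ((opIso E q M).hom ≫ (tR (cokernel (E.d q (q + 1)))).map k)) := mono_comp _ _
  rwa [Iso.inv_hom_id_assoc] at this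

open Groth.Agent.Mod48 in
theorem mono_tensor_cokernels {A₀ : Type*} [Category* A₀] [Abelian A₀] (ι : A₀ ⥤ ModSite.Mod O) [ι.Additive]
    [PreservesFiniteLimits ι] [PreservesFiniteColimits ι] (E P : CC O) [ModSite.HasLTensorCx E] (b : ℤ)
    (hb : ∀ i, b < i → IsZero (P.X i)) (hP : ∀ i, ModSite.IsFlat (P.X i)) (c : P ⟶ E) (hc : QuasiIso c) (p : ℤ)
    [PreservesFiniteLimits (ι ⋙ DerivedCategory.singleFunctor (ModSite.Mod O) 0 ⋙ ModSite.LTensorCx E ⋙
      DerivedCategory.homologyFunctor (ModSite.Mod O) p)]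
    [PreservesFiniteColimits (ι ⋙ DerivedCategory.singleFunctor (ModSite.Mod O) 0 ⋙ ModSite.LTensorCx E ⋙
      DerivedCategory.homologyFunctor (ModSite.Mod O) p)] {M N : A₀} (k : M ⟶ N) [Mono k] :
    Mono ((tR (cokernel (P.d (p - 1) p))).map (ι.map k)) ∧
      Mono ((tR (cokernel (P.d p (p + 1)))).map (ι.map k)) := by
  haveI := hc
  have hk := DCK91.isKFlat_of_le P b ((CochainComplex.isStrictlyLE_iff P b).2 hb) hP
  obtain ⟨e⟩ := FlatModel41.nonempty_HFun_iso E P hk c p
  haveI := (FlatModel41.preservesFiniteLimits_iff_of_iso (Functor.isoWhiskerLeft ι e)).1 inferInstance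
  haveI := (FlatModel41.preservesFiniteColimits_iff_of_iso (Functor.isoWhiskerLeft ι e)).1 inferInstance
  obtain ⟨h₀, h₁⟩ := mono_homologyMap_of_exact ι (FlatModel41.GE P) (FlatModel41.shortExact_GE P hP) p k
  refine ⟨?_, mono_tensor_coker P hP p (ι.map k) h₁⟩
  obtain ⟨q, rfl⟩ : ∃ q, p = q + 1 := ⟨p - 1, by omega⟩
  rw [show q + 1 - 1 = q by omega]
  exact mono_tensor_coker P hP q (ι.map k) h₀

end Site

variable {X : Scheme.{u}} (F : CochainComplex X.Modules ℤ) (e : ℤ) [(DCoh.toD X F).IsLE e] (p : ℤ)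

include e in
theorem finLocFree_HD_and_locallyConstant [QuasiSeparatedSpace X]
    (hE : DCoh.IsPseudoCoherentD (p - 1) (DCoh.toD X F)) [DCoh.HasLTensorCx F]
    [PreservesFiniteLimits ((QCohCat.isQCoh X).ι ⋙ DerivedCategory.singleFunctor X.Modules 0 ⋙ DCoh.LTensorCx F ⋙
      DerivedCategory.homologyFunctor X.Modules p)]
    [PreservesFiniteColimits ((QCohCat.isQCoh X).ι ⋙ DerivedCategory.singleFunctor X.Modules 0 ⋙ DCoh.LTensorCx F ⋙
      DerivedCategory.homologyFunctor X.Modules p)]
    [∀ x : X, DCoh.HasLpull (X.fromSpecResidueField x)] :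
    FlatMod.IsFinLocFree (DCoh.HD (DCoh.toD X F) p) ∧
      IsLocallyConstant (fun x : X => PerfD.betti (DCoh.toD X F) x p) := by
  obtain ⟨P, c, hPb, hP, hc⟩ := StalkExact41.exists_res F e
  haveI := hc
  haveI := (DerivedCategory.isIso_Q_map_iff_quasiIso X.Modules c).2 hc
  haveI : ModSite.HasLTensorCx (O := X.sheaf) F := (inferInstance : DCoh.HasLTensorCx F)
  let ι : (QCohCat.isQCoh X).FullSubcategory ⥤ ModSite.Mod X.sheaf := (QCohCat.isQCoh X).ι
  letI : Abelian (QCohCat.isQCoh X).FullSubcategory := QCGroth72.instAbelian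
  haveI : ι.Additive := inferInstanceAs (QCohCat.isQCoh X).ι.Additive
  haveI : PreservesFiniteLimits ι := inferInstanceAs (PreservesFiniteLimits (QCohCat.isQCoh X).ι)
  haveI : PreservesFiniteColimits ι := PreservesColimitsOfSize.preservesFiniteColimits (QCohCat.isQCoh X).ι
  haveI : PreservesFiniteLimits (ι ⋙ DerivedCategory.singleFunctor (ModSite.Mod X.sheaf) 0 ⋙
      ModSite.LTensorCx (O := X.sheaf) F ⋙ DerivedCategory.homologyFunctor (ModSite.Mod X.sheaf) p) :=
    (inferInstance : PreservesFiniteLimits ((QCohCat.isQCoh X).ι ⋙ DerivedCategory.singleFunctor X.Modules 0 ⋙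
      DCoh.LTensorCx F ⋙ DerivedCategory.homologyFunctor X.Modules p))
  haveI : PreservesFiniteColimits (ι ⋙ DerivedCategory.singleFunctor (ModSite.Mod X.sheaf) 0 ⋙
      ModSite.LTensorCx (O := X.sheaf) F ⋙ DerivedCategory.homologyFunctor (ModSite.Mod X.sheaf) p) :=
    (inferInstance : PreservesFiniteColimits ((QCohCat.isQCoh X).ι ⋙ DerivedCategory.singleFunctor X.Modules 0 ⋙
      DCoh.LTensorCx F ⋙ DerivedCategory.homologyFunctor X.Modules p))
  have hm : ∀ {M N : X.Modules} (k : M ⟶ N), M.IsQuasicoherent → N.IsQuasicoherent → Mono k →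
      Mono ((DCoh.tensorBi.map k).app (cokernel (P.d (p - 1) p))) ∧
        Mono ((DCoh.tensorBi.map k).app (cokernel (P.d p (p + 1)))) := by
    intro M N k hM hN hk
    let k₀ : (⟨M, hM⟩ : (QCohCat.isQCoh X).FullSubcategory) ⟶ ⟨N, hN⟩ := ObjectProperty.homMk k
    haveI : Mono k₀ := (QCohCat.isQCoh X).ι.mono_of_mono_map hk
    exact mono_tensor_cokernels (O := X.sheaf) ι F P e hPb (fun i => DCK91.isFlat_of_flatMod _ (hP i)) c hc p k₀
  exact Betti41.consequences hPb hP (DCX42.isPC_of_iso (asIso (DerivedCategory.Q.map c)).symm hE)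
    (asIso (DerivedCategory.Q.map c))
    (isFlat_of_mono_qcoh _ fun M N k hM hN hk => (hm k hM hN hk).1)
    (isFlat_of_mono_qcoh _ fun M N k hM hN hk => (hm k hM hN hk).2)

end Groth.Agent.QExact41
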