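import Groth.Agent.QExact41.MonoFlat
import Groth.Agent.Betti41.Exact
import Groth.Prelude.Def_DRing2
import Mathlib.RingTheory.LocalRing.Module
import Mathlib.RingTheory.Localization.Integer

/-!
A perfect complex over a local ring of a scheme spreads out.
-/

set_option autoImplicit false
set_option linter.style.haveILetI false
set_option linter.unusedSectionVars false
set_option backward.isDefEq.respectTransparency.types false

noncomputable section

universe u

open CategoryTheory Limits AlgebraicGeometry TensorProduct Opposite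
attribute [local instance] HasDerivedCategory.standard

namespace Groth.Agent.QExact41

section Algebra

variable {R A : Type u} [CommRing R] [CommRing A] [Algebra R A] (S : Submonoid R) [IsLocalization S A]

include S in
/-- A bounded complex of finite free modules over a localization comes from the base. -/
theorem exists_model (a b : ℤ) (n : ℤ → ℕ) (hn : ∀ i, (i < a ∨ b < i) → n i = 0)
    (M : ℤ → Type u) [∀ i, AddCommGroup (M i)] [∀ i, Module A (M i)] [∀ i, Module R (M i)]
    [∀ i, IsScalarTower R A (M i)] (bM : ∀ i, Module.Basis (Fin (n i)) A (M i))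
    (d : ∀ i, M i →ₗ[A] M (i + 1)) (hd : ∀ i x, d (i + 1) (d i x) = 0) :
    ∃ (d' : ∀ i, (Fin (n i) → R) →ₗ[R] (Fin (n (i + 1)) → R)) (g : ∀ i, (Fin (n i) → R) →ₗ[R] M i),
      (∀ i x, d' (i + 1) (d' i x) = 0) ∧ (∀ i x, g (i + 1) (d' i x) = d i (g i x)) ∧
      (∀ i, Function.Bijective ((g i).liftBaseChange A)) := by
  classical
  let ι := (i : ↥(Finset.Icc a b)) × (Fin (n i.1) × Fin (n (i.1 + 1)))
  obtain ⟨s, hs⟩ := IsLocalization.exist_integer_multiples_of_finite S
    (fun q : ι => (bM (q.1.1 + 1)).repr (d q.1.1 (bM q.1.1 q.2.1)) q.2.2)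
  have hL : ∀ i, ∀ (k : Fin (n i)) (l : Fin (n (i + 1))), ∃ r : R,
      algebraMap R A r = (s : R) • (bM (i + 1)).repr (d i (bM i k)) l := fun i k l => by
    by_cases hi : i ∈ Finset.Icc a b
    · obtain ⟨r, hr⟩ := hs ⟨⟨i, hi⟩, (k, l)⟩
      exact ⟨r, hr⟩
    · exact absurd k.2 (by have := hn i (by simp only [Finset.mem_Icc] at hi; omega); omega)
  choose c hc using hL
  let g₀ : ∀ i, (Fin (n i) → R) →ₗ[R] M i := fun i => (Pi.basisFun R (Fin (n i))).constr ℕ fun k => bM i k
  let L : ∀ i, (Fin (n i) → R) →ₗ[R] (Fin (n (i + 1)) → R) := fun i =>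
    (Pi.basisFun R (Fin (n i))).constr ℕ fun k => c i k
  have hg0 : ∀ i (x : Fin (n i) → R), g₀ i x = ∑ k, x k • bM i k := fun i x => by
    simp [g₀, Module.Basis.constr_apply_fintype]
  have hgL : ∀ i x, g₀ (i + 1) (L i x) = (s : R) • d i (g₀ i x) := fun i => by
    have h : (g₀ (i + 1)).comp (L i) = (s : R) • ((d i).restrictScalars R).comp (g₀ i) := by
      refine (Pi.basisFun R (Fin (n i))).ext fun k => ?_
      simp only [LinearMap.comp_apply, LinearMap.smul_apply, LinearMap.coe_restrictScalars, L, g₀,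
        Module.Basis.constr_basis]
      change g₀ (i + 1) (c i k) = _
      rw [hg0]
      conv_rhs => rw [← (bM (i + 1)).sum_repr (d i (bM i k)), Finset.smul_sum]
      refine Finset.sum_congr rfl fun l _ => ?_
      rw [← algebraMap_smul A (c i k l), hc, smul_assoc]
    exact fun x => LinearMap.congr_fun h x
  have hinj : ∀ i (x : Fin (n i) → R), g₀ i x = 0 → ∀ k, algebraMap R A (x k) = 0 := fun i x hx k => by
    have := congrArg (fun m => (bM i).repr m k) hx
    simpa [hg0, ← algebraMap_smul A, Finsupp.single_apply] using this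
  have hLL : ∀ i x, g₀ (i + 1 + 1) (L (i + 1) (L i x)) = 0 := fun i x => by
    rw [hgL, hgL, LinearMap.map_smul_of_tower, hd, smul_zero, smul_zero]
  let ι' := (i : ↥(Finset.Icc a b)) × (Fin (n i.1) × Fin (n (i.1 + 1 + 1)))
  let z : ι' → R := fun q => L (q.1.1 + 1) (L q.1.1 (Pi.single q.2.1 1)) q.2.2
  have hz : ∀ q, ∃ t : S, (t : R) * z q = 0 := fun q =>
    (IsLocalization.map_eq_zero_iff S A (z q)).1 (hinj _ _ (hLL _ _) _)
  choose t ht using hz
  let T : S := ∏ q, t q
  have hT : ∀ i x, (T : R) • L (i + 1) (L i x) = 0 := fun i => by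
    have h : (T : R) • (L (i + 1)).comp (L i) = 0 := by
      refine (Pi.basisFun R (Fin (n i))).ext fun k => funext fun l => ?_
      have hi : i ∈ Finset.Icc a b := by
        by_contra hi
        exact absurd k.2 (by have := hn i (by simp only [Finset.mem_Icc] at hi; omega); omega)
      obtain ⟨r, hr⟩ : ∃ r, (T : R) = r * (t ⟨⟨i, hi⟩, (k, l)⟩ : S) :=
        ⟨_, (congrArg Subtype.val (Finset.prod_erase_mul Finset.univ t
          (Finset.mem_univ (⟨⟨i, hi⟩, (k, l)⟩ : ι')))).symm⟩
      simp only [LinearMap.smul_apply, LinearMap.comp_apply, Pi.basisFun_apply, Pi.smul_apply, smul_eq_mul,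
        LinearMap.zero_apply, Pi.zero_apply]
      rw [hr, mul_assoc]
      exact mul_eq_zero_of_right r (ht ⟨⟨i, hi⟩, (k, l)⟩)
    exact fun x => LinearMap.congr_fun h x
  obtain ⟨u, hu⟩ : ∃ u : Aˣ, (u : A) * algebraMap R A ((T : R) * (s : R)) = 1 :=
    ⟨(IsLocalization.map_units A (T * s)).unit⁻¹, IsUnit.val_inv_mul _⟩
  refine ⟨fun i => (T : R) • L i, fun i => ((u ^ i : Aˣ) : A) • g₀ i, fun i x => ?_, fun i x => ?_, fun i => ?_⟩
  · simp only [LinearMap.smul_apply, map_smul]
    rw [hT, smul_zero]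
  · simp only [LinearMap.smul_apply, map_smul, LinearMap.map_smul_of_tower]
    rw [map_mul] at hu
    rw [hgL, zpow_add_one, Units.val_mul, ← algebraMap_smul A (T : R), ← algebraMap_smul A (s : R),
      ← mul_smul, ← mul_smul]
    congr 1
    linear_combination ((u ^ i : Aˣ) : A) * hu
  · let bR := (Pi.basisFun R (Fin (n i))).baseChange A
    let bu : Module.Basis (Fin (n i)) A (M i) := (bM i).unitsSMul fun _ => u ^ i
    have h : (((u ^ i : Aˣ) : A) • g₀ i).liftBaseChange A = (bR.equiv bu (Equiv.refl _)).toLinearMap := by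
      refine bR.ext fun k => ?_
      rw [LinearEquiv.coe_coe, Module.Basis.equiv_apply]
      simp [bR, bu, g₀, Module.Basis.unitsSMul_apply, Units.smul_def]
    rw [h]
    exact (bR.equiv bu (Equiv.refl _)).bijective

end Algebra

section Geometry

variable {X : Scheme.{u}} {U : X.Opens} (hU : IsAffineOpen U) (w : Spec Γ(X, U))

/-- The ring map to the local ring at a point of an affine open. -/
def phiAt : Γ(X, U) →+* X.presheaf.stalk (hU.fromSpec w) :=
  (sigma hU.fromSpec w).symm.toRingHom.comp (DCK91.specGerm Γ(X, U) w)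

/-- The stalks of the direct image of `tilde` from an affine open. -/
def affineStalkIso :
    tilde.functor Γ(X, U) ⋙ Scheme.Modules.pushforward hU.fromSpec ⋙ DCK91.SP (hU.fromSpec w) ≅
      ModuleCat.extendScalars.{u, u, u} (phiAt hU w) :=
  Functor.isoWhiskerLeft _ (Functor.isoWhiskerLeft _ (stalkRestrictIso hU.fromSpec w) ≪≫
      (Functor.associator _ _ _).symm ≪≫
      Functor.isoWhiskerRight (asIso (Scheme.Modules.restrictAdjunction hU.fromSpec).counit) _ ≪≫
      Functor.leftUnitor _) ≪≫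
    (Functor.associator _ _ _).symm ≪≫ Functor.isoWhiskerRight (DCK91.tildeStalkIso Γ(X, U) w) _ ≪≫
    extendTransport (sigma hU.fromSpec w) (DCK91.specGerm Γ(X, U) w)

theorem isLocalization_phiAt :
    @IsLocalization Γ(X, U) _ w.asIdeal.primeCompl (X.presheaf.stalk (hU.fromSpec w)) _ (phiAt hU w).toAlgebra := by
  letI : Algebra Γ(X, U) ((Spec Γ(X, U)).presheaf.stalk w) := (DCK91.specGerm Γ(X, U) w).toAlgebra
  letI : Algebra Γ(X, U) (X.presheaf.stalk (hU.fromSpec w)) := (phiAt hU w).toAlgebra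
  haveI : IsLocalization w.asIdeal.primeCompl ((Spec Γ(X, U)).presheaf.stalk w) :=
    StructureSheaf.IsLocalization.to_stalk Γ(X, U) w
  exact IsLocalization.isLocalization_of_algEquiv _
    (AlgEquiv.ofRingEquiv (f := (sigma hU.fromSpec w).symm) fun _ => rfl :
      (Spec Γ(X, U)).presheaf.stalk w ≃ₐ[Γ(X, U)] X.presheaf.stalk (hU.fromSpec w))

theorem exists_perfect_spread (x : X) (P : Dual.D ((X.presheaf.stalk x) : Type u))
    (hP : DRing.IsPerfect ((X.presheaf.stalk x) : Type u) P) :
    ∃ (U : X.Opens) (F' : CochainComplex X.Modules ℤ), x ∈ U ∧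
      DCoh.IsPerfect (DerivedCategory.Q.obj ((DCoh.restrictCx U).obj F')) ∧
      Nonempty (DRing.toD (((DerSch.stalkFunctor X x).mapHomologicalComplex (ComplexShape.up ℤ)).obj F') ≅ P) := by
  obtain ⟨U, hU, hx, -⟩ := exists_isAffineOpen_mem_and_subset (x := x) (U := (⊤ : X.Opens)) trivial
  obtain ⟨w, rfl⟩ : x ∈ Set.range hU.fromSpec := by rw [hU.range_fromSpec]; exact hx
  obtain ⟨E, a, b, hab, hproj, ⟨eP⟩⟩ := hP
  let A := X.presheaf.stalk (hU.fromSpec w)
  let R : CommRingCat.{u} := Γ(X, U)
  let φ : R →+* A := phiAt hU w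
  letI : Algebra R A := φ.toAlgebra
  haveI hloc := isLocalization_phiAt hU w
  haveI : ∀ i, Module.Finite A (E.X i) := fun i => (hproj i).1
  haveI : ∀ i, Module.Projective A (E.X i) := fun i => (hproj i).2
  haveI : ∀ i, Module.Free A (E.X i) := fun i => Module.free_of_flat_of_isLocalRing
  let n : ℤ → ℕ := fun i => Module.finrank A (E.X i)
  have hn : ∀ i, (i < a ∨ b < i) → n i = 0 := fun i hi => by
    haveI := ModuleCat.subsingleton_of_isZero (hab i hi)
    exact Module.finrank_zero_of_subsingleton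
  letI : ∀ i, Module R (E.X i) := fun i => Module.compHom (E.X i) φ
  haveI : ∀ i, IsScalarTower R A (E.X i) := fun i => IsScalarTower.of_algebraMap_smul fun _ _ => rfl
  obtain ⟨d', g, hd', hg, hbij⟩ := exists_model (A := A) w.asIdeal.primeCompl a b n hn (fun i => E.X i)
    (fun i => Module.finBasis A (E.X i)) (fun i => (E.d i (i + 1)).hom)
    (fun i x => LinearMap.congr_fun (congrArg ModuleCat.Hom.hom (E.d_comp_d i (i + 1) (i + 1 + 1))) x)
  let K : DRing.Cx R := CochainComplex.of (fun i => ModuleCat.of R (Fin (n i) → R)) (fun i => ModuleCat.ofHom (d' i))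
    (fun i => ModuleCat.hom_ext (LinearMap.ext (hd' i)))
  have hKd : ∀ i, K.d i (i + 1) = ModuleCat.ofHom (d' i) := fun i => CochainComplex.of_d (fun i => ModuleCat.of R (Fin (n i) → R)) (fun i => ModuleCat.ofHom (d' i)) i
  have hK0 : ∀ i, (i < a ∨ b < i) → IsZero (K.X i) := fun i hi => by
    haveI : IsEmpty (Fin (n i)) := by rw [hn i hi]; infer_instance
    exact @ModuleCat.isZero_of_subsingleton _ _ _ (inferInstanceAs (Subsingleton (Fin (n i) → R)))
  let ext := ModuleCat.extendScalars.{u, u, u} φ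
  let eK : (ext.mapHomologicalComplex (ComplexShape.up ℤ)).obj K ≅ E :=
    HomologicalComplex.Hom.isoOfComponents (fun i => (LinearEquiv.ofBijective _ (hbij i)).toModuleIso)
      (fun i k hik => by
        obtain rfl : i + 1 = k := hik
        change _ ≫ E.d i (i + 1) = ext.map (K.d i (i + 1)) ≫ _
        rw [hKd]
        refine ModuleCat.hom_ext (LinearMap.ext fun z => ?_)
        induction z using TensorProduct.induction_on with
        | zero => exact (map_zero _).trans (map_zero _).symm
        | add p q hp hq => exact (map_add _ _ _).trans ((congrArg₂ (· + ·) hp hq).trans (map_add _ _ _).symm)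
        | tmul r m =>
          change (E.d i (i + 1)).hom (r • g i m) = r • g (i + 1) (d' i m)
          rw [map_smul, hg])
  let G := tilde.functor R ⋙ Scheme.Modules.pushforward hU.fromSpec
  let F' := (G.mapHomologicalComplex (ComplexShape.up ℤ)).obj K
  let e₁ : ((DerSch.stalkFunctor X (hU.fromSpec w)).mapHomologicalComplex (ComplexShape.up ℤ)).obj F' ≅
      (ext.mapHomologicalComplex (ComplexShape.up ℤ)).obj K :=
    HomologicalComplex.Hom.isoOfComponents (fun i => (affineStalkIso hU w).app (K.X i))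
      (fun i k _ => ((affineStalkIso hU w).hom.naturality (K.d i k)).symm)
  refine ⟨U, F', hx, ?_, ⟨DerivedCategory.Q.mapIso (e₁ ≪≫ eK) ≪≫ eP⟩⟩
  have hF : DCoh.IsStrictlyPerfect ((DCoh.restrictCx U).obj F') := by
    refine ⟨⟨a, b, fun i hi => (Scheme.Modules.restrictFunctor U.ι).map_isZero (G.map_isZero (hK0 i hi))⟩, fun i => ?_⟩
    refine Betti41.isFinLocFree_of_immersions _ fun y => ⟨Spec R, hU.isoSpec.inv, inferInstance,
      ⟨hU.isoSpec.hom y, by simp⟩, ?_⟩
    refine DCX42.isFinLocFree_of_iso ?_ ((Props58.LocFree.isFinLocFree_tilde_iff (K.X i)).2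
      ⟨inferInstanceAs (Module.Finite R (Fin (n i) → R)), inferInstanceAs (Module.Projective R (Fin (n i) → R))⟩)
    exact (asIso (Scheme.Modules.restrictAdjunction hU.fromSpec).counit).symm.app (tilde (K.X i)) ≪≫
      (Scheme.Modules.restrictFunctorCongr (show hU.fromSpec = hU.isoSpec.inv ≫ U.ι from rfl)).app _ ≪≫
      (Scheme.Modules.restrictFunctorComp hU.isoSpec.inv U.ι).app _
  exact (DCX42.isPerfect_iff _).2 fun y =>
    ⟨⊤, trivial, DCX42.HasPerfRep.restrict ⟨_, hF, ⟨Iso.refl _⟩⟩ _⟩

end Geometry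

end Groth.Agent.QExact41
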