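import Mathlib.Algebra.Homology.DerivedCategory.HomologySequence
import Mathlib.Algebra.Homology.DerivedCategory.ShortExact
import Mathlib.Algebra.Homology.DerivedCategory.SingleTriangle
import Mathlib.Algebra.Homology.ShortComplex.ExactFunctor
import Groth.Agent.CohDer42.CxFactor

/-!
Functors of derived categories sending distinguished triangles to distinguished triangles, and the
left and right exactness of the cohomology functors they define.
-/

set_option autoImplicit false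
set_option linter.style.haveILetI false
set_option linter.unusedSectionVars false

noncomputable section

universe w w' w'' v v' v'' u u' u''

open CategoryTheory Limits Pretriangulated
open scoped ZeroObject

namespace Groth.Agent.QExact41

variable {A : Type u} [Category.{v} A] [Abelian A] [HasDerivedCategory.{w} A]
  {B : Type u'} [Category.{v'} B] [Abelian B] [HasDerivedCategory.{w'} B]
  {C : Type u''} [Category.{v''} C] [Abelian C] [HasDerivedCategory.{w''} C]

/-- The images of the first two maps of a distinguished triangle extend to a distinguished triangle. -/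
def TriLike (Φ : DerivedCategory A ⥤ DerivedCategory B) : Prop :=
  ∀ T : Triangle (DerivedCategory A), T ∈ distinguishedTriangles →
    ∃ δ : Φ.obj T.obj₃ ⟶ (Φ.obj T.obj₁)⟦(1 : ℤ)⟧,
      Triangle.mk (Φ.map T.mor₁) (Φ.map T.mor₂) δ ∈ distinguishedTriangles

theorem TriLike.comp {Φ : DerivedCategory A ⥤ DerivedCategory B} {Ψ : DerivedCategory B ⥤ DerivedCategory C}
    (hΦ : TriLike Φ) (hΨ : TriLike Ψ) : TriLike (Φ ⋙ Ψ) := fun T hT => by
  obtain ⟨δ, hδ⟩ := hΦ T hT
  exact hΨ _ hδ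

lemma square {D D' : Type*} [Category* D] [Category* D'] (Φ : D ⥤ D') {X Y X' Y' : D} {f : X' ⟶ Y'} {a : X ⟶ Y}
    {e₁ : X' ⟶ X} {e₂ : Y' ⟶ Y} {M N : D'} {g : M ⟶ N} {x : M ⟶ Φ.obj X'} {y : N ⟶ Φ.obj Y'}
    (h : g ≫ y = x ≫ Φ.map f) (h' : f ≫ e₂ = e₁ ≫ a) : g ≫ y ≫ Φ.map e₂ = (x ≫ Φ.map e₁) ≫ Φ.map a := by
  rw [reassoc_of% h, ← Φ.map_comp, h', Φ.map_comp, Category.assoc]

/-- A triangle with the same first two maps up to isomorphism is enough. -/
theorem exists_δ_of_iso {Φ : DerivedCategory A ⥤ DerivedCategory B} {X Y Z : DerivedCategory A} (a : X ⟶ Y) (b : Y ⟶ Z)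
    (S : Triangle (DerivedCategory B)) (hS : S ∈ distinguishedTriangles) (u₁ : S.obj₁ ≅ Φ.obj X)
    (u₂ : S.obj₂ ≅ Φ.obj Y) (u₃ : S.obj₃ ≅ Φ.obj Z) (h₁ : S.mor₁ ≫ u₂.hom = u₁.hom ≫ Φ.map a)
    (h₂ : S.mor₂ ≫ u₃.hom = u₂.hom ≫ Φ.map b) :
    ∃ δ : Φ.obj Z ⟶ (Φ.obj X)⟦(1 : ℤ)⟧, Triangle.mk (Φ.map a) (Φ.map b) δ ∈ distinguishedTriangles := by
  refine ⟨u₃.inv ≫ S.mor₃ ≫ u₁.hom⟦(1 : ℤ)⟧', isomorphic_distinguished S hS _
    (Triangle.isoMk (Triangle.mk _ _ _) S u₁.symm u₂.symm u₃.symm ?_ ?_ ?_)⟩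
  · change Φ.map a ≫ u₂.inv = u₁.inv ≫ S.mor₁
    rw [Iso.comp_inv_eq, Category.assoc, h₁, Iso.inv_hom_id_assoc]
  · change Φ.map b ≫ u₃.inv = u₂.inv ≫ S.mor₂
    rw [Iso.comp_inv_eq, Category.assoc, h₂, Iso.inv_hom_id_assoc]
  · change (u₃.inv ≫ S.mor₃ ≫ u₁.hom⟦(1 : ℤ)⟧') ≫ u₁.inv⟦(1 : ℤ)⟧' = u₃.inv ≫ S.mor₃
    rw [Category.assoc, Category.assoc, ← Functor.map_comp, u₁.hom_inv_id, CategoryTheory.Functor.map_id,
      Category.comp_id]

/-- A functor agreeing with a termwise functor on a class of complexes sufficient to represent all triangles. -/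
theorem triLike_of_termwise (Φ : DerivedCategory A ⥤ DerivedCategory B) (R : A ⥤ B) [R.Additive]
    (good : CochainComplex A ℤ → Prop)
    (hres : ∀ T : Triangle (DerivedCategory A), T ∈ distinguishedTriangles → ∃ (P N : CochainComplex A ℤ)
      (b : P ⟶ N), good P ∧ good N ∧ good (CochainComplex.mappingCone b) ∧
        Nonempty (DerivedCategory.Q.mapTriangle.obj (CochainComplex.mappingCone.triangle b) ≅ T))
    (α : DerivedCategory.Q ⋙ Φ ⟶ R.mapHomologicalComplex (ComplexShape.up ℤ) ⋙ DerivedCategory.Q)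
    (hα : ∀ P, good P → IsIso (α.app P)) : TriLike Φ := by
  intro T hT
  obtain ⟨P, N, b, hP, hN, hM, ⟨e⟩⟩ := hres T hT
  let G := R.mapHomologicalComplex (ComplexShape.up ℤ)
  have := hα P hP
  have := hα N hN
  have := hα _ hM
  refine exists_δ_of_iso T.mor₁ T.mor₂ _ (DerivedCategory.mappingCone_triangle_distinguished (G.map b))
    ((asIso (α.app P)).symm ≪≫ Φ.mapIso (Triangle.π₁.mapIso e))
    ((asIso (α.app N)).symm ≪≫ Φ.mapIso (Triangle.π₂.mapIso e))
    (DerivedCategory.Q.mapIso (CochainComplex.mappingCone.mapHomologicalComplexIso b R).symm ≪≫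
      (asIso (α.app _)).symm ≪≫ Φ.mapIso (Triangle.π₃.mapIso e)) ?_ ?_
  · change DerivedCategory.Q.map (G.map b) ≫ inv (α.app N) ≫ Φ.map e.hom.hom₂ =
      (inv (α.app P) ≫ Φ.map e.hom.hom₁) ≫ Φ.map T.mor₁
    have hn : Φ.map (DerivedCategory.Q.map b) ≫ α.app N = α.app P ≫ DerivedCategory.Q.map (G.map b) :=
      α.naturality b
    have hn' : inv (α.app P) ≫ Φ.map (DerivedCategory.Q.map b) = DerivedCategory.Q.map (G.map b) ≫ inv (α.app N) := by
      rw [IsIso.inv_comp_eq, ← Category.assoc, IsIso.eq_comp_inv, hn]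
    exact square Φ hn'.symm e.hom.comm₁
  · change DerivedCategory.Q.map (CochainComplex.mappingCone.inr (G.map b)) ≫
        DerivedCategory.Q.map (CochainComplex.mappingCone.mapHomologicalComplexIso b R).inv ≫
          inv (α.app _) ≫ Φ.map e.hom.hom₃ = (inv (α.app N) ≫ Φ.map e.hom.hom₂) ≫ Φ.map T.mor₂
    have hi : DerivedCategory.Q.map (CochainComplex.mappingCone.inr (G.map b)) ≫
        DerivedCategory.Q.map (CochainComplex.mappingCone.mapHomologicalComplexIso b R).inv =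
        DerivedCategory.Q.map (G.map (CochainComplex.mappingCone.inr b)) := by
      rw [← Functor.map_comp, ← CochainComplex.mappingCone.map_inr b R, Category.assoc, Iso.hom_inv_id,
        Category.comp_id]
    have hn : Φ.map (DerivedCategory.Q.map (CochainComplex.mappingCone.inr b)) ≫ α.app _ =
        α.app N ≫ DerivedCategory.Q.map (G.map (CochainComplex.mappingCone.inr b)) :=
      α.naturality _
    have hn' : inv (α.app N) ≫ Φ.map (DerivedCategory.Q.map (CochainComplex.mappingCone.inr b)) =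
        DerivedCategory.Q.map (G.map (CochainComplex.mappingCone.inr b)) ≫ inv (α.app _) := by
      rw [IsIso.inv_comp_eq, ← Category.assoc, IsIso.eq_comp_inv, hn]
    rw [reassoc_of% hi]
    exact square Φ hn'.symm e.hom.comm₂

/-- Every triangle comes from a degreewise split short exact sequence. -/
theorem exists_split_rep (T : Triangle (DerivedCategory A)) (hT : T ∈ distinguishedTriangles) :
    ∃ (S : ShortComplex (CochainComplex A ℤ)) (hS : S.ShortExact),
      (∀ n, Nonempty (S.map (HomologicalComplex.eval A (ComplexShape.up ℤ) n)).Splitting) ∧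
        Nonempty (DerivedCategory.triangleOfSES hS ≅ T) := by
  obtain ⟨K, L, φ, ⟨e⟩⟩ := (DerivedCategory.mem_distTriang_iff T).1 hT
  obtain ⟨L', α', π, s, hπ, hsπ, ⟨h⟩, hsplit, -, -⟩ := CohDer42.exists_split_mono_factorization K L φ
  let S := ShortComplex.mk α' (cokernel.π α') (cokernel.condition α')
  have hσ : ∀ n, Nonempty (S.map (HomologicalComplex.eval A (ComplexShape.up ℤ) n)).Splitting := by
    intro n
    let Sn := S.map (HomologicalComplex.eval A (ComplexShape.up ℤ) n)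
    obtain ⟨C', eC, he⟩ := hsplit n
    haveI : Epi Sn.g :=
      (inferInstance : (HomologicalComplex.eval A (ComplexShape.up ℤ) n).PreservesEpimorphisms).preserves _
    exact ⟨ShortComplex.Splitting.ofExactOfRetraction Sn
      ((ShortComplex.exact_of_g_is_cokernel S (cokernelIsCokernel α')).map _) (eC.hom ≫ biprod.fst)
      (by change α'.f n ≫ eC.hom ≫ biprod.fst = _; rw [reassoc_of% he, biprod.inl_fst]; rfl) inferInstance⟩
  have hS : S.ShortExact := HomologicalComplex.shortExact_of_degreewise_shortExact _ fun n => (hσ n).some.shortExact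
  let eπ : DerivedCategory.Q.obj L' ≅ DerivedCategory.Q.obj L :=
    { hom := DerivedCategory.Q.map π
      inv := DerivedCategory.Q.map s
      hom_inv_id := by rw [← Functor.map_comp, DerivedCategory.Q_map_eq_of_homotopy A h, CategoryTheory.Functor.map_id]
      inv_hom_id := by rw [← Functor.map_comp, hsπ, CategoryTheory.Functor.map_id] }
  exact ⟨S, hS, hσ, ⟨isoTriangleOfIso₁₂ _ _ (DerivedCategory.triangleOfSES_distinguished hS)
    (DerivedCategory.mappingCone_triangle_distinguished φ) (Iso.refl _) eπ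
    (by
      change DerivedCategory.Q.map α' ≫ DerivedCategory.Q.map π = 𝟙 _ ≫ DerivedCategory.Q.map φ
      rw [Category.id_comp, ← Functor.map_comp, hπ]) ≪≫ e.symm⟩⟩

/-- A functor with a model preserving degreewise split short exact sequences. -/
theorem triLike_of_model (Φ : DerivedCategory A ⥤ DerivedCategory B) (G : CochainComplex A ℤ ⥤ CochainComplex B ℤ)
    [G.PreservesZeroMorphisms]
    (hG : ∀ S : ShortComplex (CochainComplex A ℤ),
      (∀ n, Nonempty (S.map (HomologicalComplex.eval A (ComplexShape.up ℤ) n)).Splitting) → (S.map G).ShortExact)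
    (e : G ⋙ DerivedCategory.Q ≅ DerivedCategory.Q ⋙ Φ) : TriLike Φ := by
  intro T hT
  obtain ⟨S, hS, hσ, ⟨eT⟩⟩ := exists_split_rep T hT
  refine exists_δ_of_iso T.mor₁ T.mor₂ _ (DerivedCategory.triangleOfSES_distinguished (hG S hσ))
    (e.app S.X₁ ≪≫ Φ.mapIso (Triangle.π₁.mapIso eT)) (e.app S.X₂ ≪≫ Φ.mapIso (Triangle.π₂.mapIso eT))
    (e.app S.X₃ ≪≫ Φ.mapIso (Triangle.π₃.mapIso eT)) ?_ ?_
  · change DerivedCategory.Q.map (G.map S.f) ≫ e.hom.app S.X₂ ≫ Φ.map eT.hom.hom₂ =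
      (e.hom.app S.X₁ ≫ Φ.map eT.hom.hom₁) ≫ Φ.map T.mor₁
    exact square Φ (e.hom.naturality S.f) eT.hom.comm₁
  · change DerivedCategory.Q.map (G.map S.g) ≫ e.hom.app S.X₃ ≫ Φ.map eT.hom.hom₃ =
      (e.hom.app S.X₂ ≫ Φ.map eT.hom.hom₂) ≫ Φ.map T.mor₂
    exact square Φ (e.hom.naturality S.g) eT.hom.comm₂

section Zero

variable {Φ : DerivedCategory A ⥤ DerivedCategory B} (hΦ : TriLike Φ)
include hΦ

theorem TriLike.isZero_obj {Z : DerivedCategory A} (hZ : IsZero Z) : IsZero (Φ.obj Z) := by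
  obtain ⟨δ, hδ⟩ := hΦ _ (contractible_distinguished Z)
  have hz : IsZero (Φ.obj 0) :=
    Triangle.isZero₃_of_isIso₁ _ hδ (inferInstanceAs (IsIso (Φ.map (𝟙 Z))))
  exact hz.of_iso (Φ.mapIso (hZ.iso (isZero_zero _)))

theorem TriLike.map_zero' (X Y : DerivedCategory A) : Φ.map (0 : X ⟶ Y) = 0 := by
  have : (0 : X ⟶ Y) = (0 : X ⟶ 0) ≫ (0 : (0 : DerivedCategory A) ⟶ Y) := by simp
  rw [this, Φ.map_comp]
  exact ((hΦ.isZero_obj (isZero_zero _)).eq_of_tgt (Φ.map (0 : X ⟶ 0)) 0 ▸ zero_comp)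

theorem TriLike.additive : Φ.Additive := by
  haveI : Φ.PreservesZeroMorphisms := ⟨hΦ.map_zero'⟩
  have htot : ∀ X Y : DerivedCategory A,
      Φ.map (biprod.fst : X ⊞ Y ⟶ X) ≫ Φ.map biprod.inl + Φ.map (biprod.snd : X ⊞ Y ⟶ Y) ≫ Φ.map biprod.inr =
        𝟙 (Φ.obj (X ⊞ Y)) := by
    intro X Y
    obtain ⟨δ, hδ⟩ := hΦ _ (binaryBiproductTriangle_distinguished X Y)
    have h11 : Φ.map (biprod.inl : X ⟶ X ⊞ Y) ≫ Φ.map biprod.fst = 𝟙 _ := by
      rw [← Φ.map_comp, biprod.inl_fst, Φ.map_id]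
    have h22 : Φ.map (biprod.inr : Y ⟶ X ⊞ Y) ≫ Φ.map biprod.snd = 𝟙 _ := by
      rw [← Φ.map_comp, biprod.inr_snd, Φ.map_id]
    have h12 : Φ.map (biprod.inl : X ⟶ X ⊞ Y) ≫ Φ.map biprod.snd = 0 := by
      rw [← Φ.map_comp, biprod.inl_snd, Φ.map_zero]
    have h21 : Φ.map (biprod.inr : Y ⟶ X ⊞ Y) ≫ Φ.map biprod.fst = 0 := by
      rw [← Φ.map_comp, biprod.inr_fst, Φ.map_zero]
    let r : Φ.obj (X ⊞ Y) ⟶ Φ.obj (X ⊞ Y) :=
      Φ.map biprod.fst ≫ Φ.map biprod.inl + Φ.map biprod.snd ≫ Φ.map biprod.inr - 𝟙 _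
    have hrs : r ≫ Φ.map biprod.snd = 0 := by simp [r, h12, h22]
    have hrf : r ≫ Φ.map biprod.fst = 0 := by simp [r, h11, h21]
    obtain ⟨g, hg⟩ : ∃ g : Φ.obj (X ⊞ Y) ⟶ Φ.obj X, r = g ≫ Φ.map biprod.inl :=
      Triangle.coyoneda_exact₂ _ hδ r hrs
    have hg0 : g = 0 := by
      rw [hg, Category.assoc, h11, Category.comp_id] at hrf
      exact hrf
    rw [hg0, zero_comp] at hg
    exact sub_eq_zero.1 hg
  haveI : PreservesBinaryBiproducts Φ := ⟨fun {X Y} => ⟨fun {b} hb => ⟨isBinaryBilimitOfTotal _ (by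
    have hb' := IsBilimit.binary_total hb
    have hd := htot X Y
    let i : b.pt ⟶ X ⊞ Y := biprod.lift b.fst b.snd
    let j : X ⊞ Y ⟶ b.pt := biprod.desc b.inl b.inr
    have hij : i ≫ j = 𝟙 _ := by simp [i, j, hb']
    have h := congrArg (fun t => Φ.map i ≫ t ≫ Φ.map j) hd
    simp only [Preadditive.comp_add, Preadditive.add_comp, Category.assoc, ← Φ.map_comp, Category.id_comp, hij,
      i, j, biprod.lift_fst_assoc, biprod.lift_snd_assoc, biprod.inl_desc, biprod.inr_desc, Φ.map_id] at h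
    change Φ.map b.fst ≫ Φ.map b.inl + Φ.map b.snd ≫ Φ.map b.inr = 𝟙 _
    rw [← Φ.map_comp, ← Φ.map_comp]
    exact h)⟩⟩⟩
  exact Functor.additive_of_preservesBinaryBiproducts Φ

end Zero

section Exactness

variable {A₀ : Type*} [Category* A₀] [Abelian A₀] (ι : A₀ ⥤ A) [ι.Additive] [PreservesFiniteLimits ι]
  [PreservesFiniteColimits ι]

/-- Right exactness in degree `p` is left exactness in degree `p + 1`. -/
theorem TriLike.preservesFiniteColimits_iff_succ {Φ : DerivedCategory A ⥤ DerivedCategory B} (hΦ : TriLike Φ) (p : ℤ) :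
    PreservesFiniteColimits (ι ⋙ DerivedCategory.singleFunctor A 0 ⋙ Φ ⋙ DerivedCategory.homologyFunctor B p) ↔
      PreservesFiniteLimits (ι ⋙ DerivedCategory.singleFunctor A 0 ⋙ Φ ⋙ DerivedCategory.homologyFunctor B (p + 1)) := by
  haveI := hΦ.additive
  rw [Functor.preservesFiniteColimits_iff_forall_exact_map_and_epi,
    Functor.preservesFiniteLimits_iff_forall_exact_map_and_mono]
  refine forall_congr' fun S => imp_congr_right fun hS => ?_
  obtain ⟨δ, hδ⟩ := hΦ _ (hS.map_of_exact ι).singleTriangle_distinguished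
  have h1 : (S.map (ι ⋙ DerivedCategory.singleFunctor A 0 ⋙ Φ ⋙ DerivedCategory.homologyFunctor B p)).Exact :=
    DerivedCategory.HomologySequence.exact₂ _ hδ p
  have h2 : (S.map (ι ⋙ DerivedCategory.singleFunctor A 0 ⋙ Φ ⋙ DerivedCategory.homologyFunctor B (p + 1))).Exact :=
    DerivedCategory.HomologySequence.exact₂ _ hδ (p + 1)
  rw [and_iff_right h1, and_iff_right h2]
  exact (DerivedCategory.HomologySequence.epi_homologyMap_mor₂_iff _ hδ p (p + 1) rfl).trans
    (DerivedCategory.HomologySequence.mono_homologyMap_mor₁_iff _ hδ p (p + 1) rfl).symm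

end Exactness

end Groth.Agent.QExact41
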